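import Cfsg.Agent.H985.HT.Cyc
import Cfsg.Agent.H523.FpfCycFam
import Cfsg.Agent.OddRank.SzTits
import Cfsg.Agent.S1156
import Cfsg.Agent.H892.HT.Disp

/-!
# S4933, the Suzuki and Ree groups, `p` odd (helper985)

* `row_of_not_dvd` : `p ∤ |K|` and `Out K` cyclic: vacuous;
* `row_sz`, `row_ree` : the fields `sz`, `ree` of `OddRows`.
-/

set_option autoImplicit false
set_option linter.unusedSectionVars false

open Subgroup Cfsg

namespace Cfsg.Agent.H985.HT

open Cfsg.Agent.H316.HT

universe u v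

/-- `p ∤ |K|` and `Out K` cyclic: the Sylow `p`-subgroups are cyclic -/
theorem row_of_not_dvd (p : ℕ) [hp : Fact p.Prime] (K : Type v) [Group K] [Finite K] (hpK : ¬ p ∣ Nat.card K)
    (hout : H523.CycOut K) : Row p K := by
  intro A _ _ N _ ⟨e⟩ hC M _ P a ha hcd
  exfalso
  set f : ↥(P : Subgroup A) →* MulAut K :=
    ((MulAut.congr e).toMonoidHom.comp MulAut.conjNormal).comp (P : Subgroup A).subtype with hf
  have hin : ∀ x : ↥(P : Subgroup A), (∃ g : K, f x = MulAut.conj g) → x = 1 := by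
    rintro x ⟨g, hg⟩
    have hxN : (x : A) ∈ N := mem_of_congr_inner hC e (s := g) fun y => DFunLike.congr_fun hg y
    obtain ⟨k, hk⟩ := P.isPGroup' x
    obtain ⟨j, -, hj⟩ := (Nat.dvd_prime_pow hp.out).1 (orderOf_dvd_of_pow_eq_one hk)
    have h1 : orderOf (e ⟨x, hxN⟩) = p ^ j := by
      rw [MulEquiv.orderOf_eq e, Subgroup.orderOf_mk, Subgroup.orderOf_coe, hj]
    have h2 : orderOf (e ⟨x, hxN⟩) ∣ Nat.card K := orderOf_dvd_natCard _
    rw [h1] at h2
    have h3 : j = 0 := by
      by_contra h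
      exact hpK ((dvd_pow_self p h).trans h2)
    rw [h3, pow_zero] at hj
    exact orderOf_eq_one_iff.1 hj
  have hcyc : IsCyclic f.range := hout.isCyclic (by
    rintro _ ⟨x, rfl⟩ h
    rw [hin x h, map_one])
  have hinj : Function.Injective f.rangeRestrict := by
    rw [injective_iff_map_eq_one]
    intro x hx
    refine hin x ⟨1, ?_⟩
    rw [map_one]
    exact congrArg Subtype.val hx
  have hcP : IsCyclic ↥(P : Subgroup A) := isCyclic_of_injective f.rangeRestrict hinj
  exact CD.not_comm hp.out ha hcd (IsCyclic.commGroup (α := ↥(P : Subgroup A))).mul_comm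

/-- cyclic Sylow `p`-subgroups and `Out K` cyclic, `p` odd -/
theorem row_of_cyc (p : ℕ) [hp : Fact p.Prime] (hp2 : p ≠ 2) (K : Type v) [Group K] [Finite K] [IsSimpleGroup K]
    (hK : ¬ IsMulCommutative K) (hcyc : ∀ P : Sylow p K, IsCyclic (P : Subgroup K)) (hout : H523.CycOut K) : Row p K := by
  by_cases hpK : p ∣ Nat.card K
  · exact row_cyc p hp2 K hK hpK hcyc
  · exact row_of_not_dvd p K hpK hout

/-- **the field `sz`** -/
theorem row_sz (p : ℕ) [Fact p.Prime] (hp2 : p ≠ 2) : H892.HT.SpR (fun p K _ => Row p K) p fun K => Lie.IsoSuzuki K := by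
  intro K _ _ _ hK h
  exact row_of_cyc p hp2 K hK (fun P => OddRank.SzTits.isCyclic_of_isPGroup h hp2 P P.isPGroup') (H523.cycOut_suzuki h)

/-- **the field `ree`** -/
theorem row_ree (p : ℕ) [hp : Fact p.Prime] (hp2 : p ≠ 2) (hp3 : p ≠ 3) :
    H892.HT.SpR (fun p K _ => Row p K) p fun K => Lie.IsoRee K := by
  intro K _ _ _ hK h
  refine row_of_cyc p hp2 K hK (fun P => ?_) (H523.cycOut_ree h)
  obtain ⟨F, _, _, m, hm, hF, ⟨e⟩⟩ := h
  have h3 : 3 < p := by
    have := hp.out.two_le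
    omega
  have : Finite ↥(Lie.twistedG2 F (3 ^ m)) := Finite.of_equiv _ e.toEquiv
  set f : ↥(P : Subgroup K) →* ↥(Lie.twistedG2 F (3 ^ m)) := e.toMonoidHom.comp (P : Subgroup K).subtype with hf
  have hfi : Function.Injective f := e.injective.comp Subtype.val_injective
  obtain ⟨Q, hQ⟩ := (P.isPGroup'.of_surjective f.rangeRestrict f.rangeRestrict_surjective).exists_le_sylow
  have := S1156.result hm hF h3 Q
  exact isCyclic_of_injective (f.codRestrict (Q : Subgroup _) fun x => hQ ⟨x, rfl⟩) fun a b h =>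
    hfi (congrArg Subtype.val h)

end Cfsg.Agent.H985.HT
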