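import Cfsg.Agent.H316.HT.Defs
import Cfsg.Agent.H596.Degree
import Cfsg.Agent.H137.K4.ReeInv
import Cfsg.Agent.GH.EFrameTops

/-!
# S4933, box `2.ree`: the Ree groups, `p = 2` (helper985)

The outer automorphism group has odd order and the Sylow 2-subgroups are elementary abelian: vacuous.
-/

set_option autoImplicit false

open Subgroup Cfsg

namespace Cfsg.Agent.H985.HT

open Cfsg.Agent.H316.HT

universe u v

/-- the degrees of an abelian group are `1` -/
theorem CD.not_comm {p a : ℕ} (hp : p.Prime) (ha : 0 < a) {P : Type u} [Group P] [Finite P] (h : CD p a P) :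
    ¬ ∀ x y : P, x * y = y * x := by
  intro hc
  obtain ⟨φ, hφ⟩ := h.2
  have h1 := H596.charDegree_dvd_index φ.2 (⊤ : Subgroup P) fun a _ b _ => hc a b
  rw [hφ, index_top] at h1
  have h2 : 1 < p ^ a := Nat.one_lt_pow ha.ne' hp.one_lt
  have h3 := Nat.le_of_dvd one_pos h1
  omega

/-- an element inducing an inner automorphism of `N` lies in `N` -/
theorem mem_of_inner {A : Type u} [Group A] {N : Subgroup A} (hC : centralizer (N : Set A) = ⊥) {x : A} {n : A} (hn : n ∈ N)
    (h : ∀ y ∈ N, x * y * x⁻¹ = n * y * n⁻¹) : x ∈ N := by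
  have h1 : n⁻¹ * x ∈ centralizer (N : Set A) := by
    rw [mem_centralizer_iff]
    intro y hy
    have h2 := h y hy
    calc y * (n⁻¹ * x) = n⁻¹ * (n * y * n⁻¹) * x := by group
      _ = n⁻¹ * (x * y * x⁻¹) * x := by rw [h2]
      _ = n⁻¹ * x * y := by group
  rw [hC, mem_bot] at h1
  rw [inv_mul_eq_one.1 h1] at hn
  exact hn

/-- conjugation by `x`, transported to `S` -/
theorem mem_of_congr_inner {A : Type u} [Group A] {N : Subgroup A} [N.Normal] (hC : centralizer (N : Set A) = ⊥)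
    {S : Type v} [Group S] (e : N ≃* S) {x : A} {s : S}
    (h : ∀ y : S, (MulAut.congr e (MulAut.conjNormal x)) y = s * y * s⁻¹) : x ∈ N := by
  refine mem_of_inner hC (e.symm s).2 fun y hy => ?_
  have h1 := h (e ⟨y, hy⟩)
  have h2 : e (MulAut.conjNormal x ⟨y, hy⟩) = s * e ⟨y, hy⟩ * s⁻¹ := by
    rw [← h1]
    simp [MulAut.congr]
  have h3 := congrArg (fun t => ((e.symm t : N) : A)) h2
  simpa [MulAut.conjNormal_apply] using h3

/-- **box 2.ree** -/
theorem row_two_ree (K : Type) [Group K] [Finite K] [IsSimpleGroup K] (_ : ¬ IsMulCommutative K) (h : Lie.IsoRee K) :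
    Row 2 K := by
  intro A _ _ N _ ⟨e⟩ hC M _ P a ha hcd
  exfalso
  -- `P ≤ N`
  have hPN : (P : Subgroup A) ≤ N := by
    intro x hx
    obtain ⟨k, hk⟩ := (IsPGroup.iff_orderOf.1 P.isPGroup') ⟨x, hx⟩
    have hxk : x ^ 2 ^ k = 1 := by
      rw [Subgroup.orderOf_mk] at hk
      rw [← hk]
      exact pow_orderOf_eq_one x
    obtain ⟨s, hs⟩ := H137.K4.inner_ree h (MulAut.congr e (MulAut.conjNormal x)) ⟨k, 1, fun y => by
      rw [← map_pow, ← map_pow, hxk, map_one, map_one]
      simp⟩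
    exact mem_of_congr_inner hC e hs
  -- the Sylow 2-subgroups of `N` are elementary abelian
  refine CD.not_comm Nat.prime_two ha hcd fun x y => ?_
  have : Fact (Nat.Prime 2) := ⟨Nat.prime_two⟩
  set f : ↥(P : Subgroup A) →* K := e.toMonoidHom.comp (Subgroup.inclusion hPN) with hf
  have hfi : Function.Injective f := e.injective.comp (Subgroup.inclusion_injective hPN)
  obtain ⟨Q, hQ⟩ := (P.isPGroup'.of_surjective f.rangeRestrict f.rangeRestrict_surjective).exists_le_sylow
  have hsq : ∀ z : ↥(P : Subgroup A), z * z = 1 := fun z => hfi (by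
    rw [map_mul, map_one]
    exact (GH.EFrameTops.sylE8_ree h Q).2 (f z) (hQ ⟨z, rfl⟩))
  have hinv : ∀ z : ↥(P : Subgroup A), z⁻¹ = z := fun z => inv_eq_of_mul_eq_one_left (hsq z)
  calc x * y = (x * y)⁻¹ := (hinv _).symm
    _ = y⁻¹ * x⁻¹ := mul_inv_rev x y
    _ = y * x := by rw [hinv, hinv]

end Cfsg.Agent.H985.HT
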