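import Cfsg.Agent.H985.HT.CycPhi
import Cfsg.Agent.H985.HT.CycPsi
import Cfsg.Agent.H985.HT.ReeTwo
import Cfsg.Agent.S1942
import Cfsg.Agent.H914.XR.Over
import Cfsg.Agent.OddOrderCharacters.PF9.CliffGen
import Cfsg.Agent.OddOrderCharacters.IndRes

/-!
# S4933, the rows with cyclic Sylow `p`-subgroups, `p` odd (helper985)

`row_cyc` : the row of a simple group with cyclic Sylow `p`-subgroups, `p` odd.
-/

set_option autoImplicit false
set_option linter.unusedSectionVars false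

open Subgroup Cfsg

namespace Cfsg.Agent.H985.HT

open Cfsg.Agent.H316.HT
open Cfsg.Agent.Characters Cfsg.Agent.Characters.Core
open Cfsg.Agent.OddOrderCharacters.IndRes Cfsg.Agent.OddOrderCharacters.PF9.CliffGen Cfsg.Agent.OddOrderCharacters.NormalInduced

universe u v

theorem mem_zpowers_of_order_p {p : ℕ} [hp : Fact p.Prime] {R : Type*} [Group R] [Finite R] [IsCyclic R] {x y : R}
    (hx : orderOf x = p) (hy : y ^ p = 1) : y ∈ zpowers x := by
  classical
  have : Fintype R := Fintype.ofFinite R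
  have h1 := IsCyclic.card_pow_eq_one_le (α := R) hp.out.pos
  have h2 : (Finset.univ.filter fun z : R => z ∈ zpowers x) ⊆ (Finset.univ.filter fun z : R => z ^ p = 1) := by
    intro z hz
    rw [Finset.mem_filter] at hz ⊢
    obtain ⟨i, rfl⟩ := mem_zpowers_iff.1 hz.2
    refine ⟨Finset.mem_univ _, ?_⟩
    have h3 : x ^ p = 1 := hx ▸ pow_orderOf_eq_one x
    rw [← zpow_natCast, ← zpow_mul, mul_comm, zpow_mul, zpow_natCast, h3, one_zpow]
  have h3 : (Finset.univ.filter fun z : R => z ∈ zpowers x).card = p := by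
    rw [← Fintype.card_subtype, ← Nat.card_eq_fintype_card]
    exact (Nat.card_zpowers x).trans hx
  have h4 := Finset.eq_of_subset_of_card_le h2 (h3 ▸ h1)
  have h5 : y ∈ (Finset.univ.filter fun z : R => z ^ p = 1) := Finset.mem_filter.2 ⟨Finset.mem_univ _, hy⟩
  rw [← h4] at h5
  exact (Finset.mem_filter.1 h5).2

/-- an element of `p`-power order, not `1`: a power has order `p` -/
theorem exists_pow_orderOf {p : ℕ} [hp : Fact p.Prime] {R : Type*} [Group R] {x : R} (hx : x ≠ 1) {j : ℕ}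
    (h : x ^ p ^ j = 1) : ∃ i : ℕ, orderOf (x ^ i) = p := by
  obtain ⟨s, -, hs⟩ := (Nat.dvd_prime_pow hp.out).1 (orderOf_dvd_of_pow_eq_one h)
  obtain ⟨s', rfl⟩ : ∃ s', s = s' + 1 := ⟨s - 1, by
    have : s ≠ 0 := by
      rintro rfl
      rw [pow_zero] at hs
      exact hx (orderOf_eq_one_iff.1 hs)
    omega⟩
  refine ⟨p ^ s', ?_⟩
  rw [orderOf_pow_of_dvd (pow_ne_zero _ hp.out.ne_zero) (by rw [hs]; exact pow_dvd_pow p (by omega)), hs, pow_succ,
    Nat.mul_div_cancel_left _ (pow_pos hp.out.pos _)]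

section lemmas

variable {A : Type u} [Group A] [Finite A] {p : ℕ} [hp : Fact p.Prime] (P : Sylow p A) (N : Subgroup A) [hN : N.Normal]

theorem exists_pow_one {x : A} (hx : x ∈ (P : Subgroup A)) : ∃ k : ℕ, x ^ p ^ k = 1 := by
  obtain ⟨k, hk⟩ := P.isPGroup' ⟨x, hx⟩
  exact ⟨k, congrArg Subtype.val hk⟩

/-- **Gross**: an element of `P` centralizing `P ⊓ N` lies in `N` -/
theorem mem_of_centralizes (hp2 : p ≠ 2) [IsSimpleGroup N] (hNc : ¬ IsMulCommutative N) (hpN : p ∣ Nat.card N)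
    (hC : centralizer (N : Set A) = ⊥) {x : A} (hx : x ∈ (P : Subgroup A))
    (h : ∀ z ∈ (P : Subgroup A) ⊓ N, x * z = z * x) : x ∈ N := by
  obtain ⟨k, hk⟩ := exists_pow_one P hx
  have h1 : (MulAut.conjNormal x : MulAut N) ^ p ^ k = 1 := by rw [← map_pow, hk, map_one]
  obtain ⟨j, -, hj⟩ := (Nat.dvd_prime_pow hp.out).1 (orderOf_dvd_of_pow_eq_one h1)
  obtain ⟨g, hg⟩ := S1942.result hNc hp2 hpN
    ((Lib.SylowNormalInf.isPGroup_subgroupOf P N).toSylow (Lib.SylowNormalInf.not_dvd_relIndex P N))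
    (MulAut.conjNormal x : MulAut N) ⟨j, hj⟩ (by
      intro y hy
      have hy' : (y : A) ∈ (P : Subgroup A) := hy
      apply Subtype.ext
      rw [MulAut.conjNormal_apply, h y ⟨hy', y.2⟩, mul_inv_cancel_right])
  refine mem_of_inner hC g.2 fun y hy => ?_
  have h2 := congrArg Subtype.val (hg ⟨y, hy⟩)
  simpa [MulAut.conjNormal_apply] using h2

/-- the exponent of `p` in the index of a normal subgroup -/
theorem factorization_index : N.index.factorization p = (((P : Subgroup A) ⊓ N).relIndex (P : Subgroup A)).factorization p := by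
  have h1 := Lib.SylowNormalInf.card_inf_mul_relIndex (P : Subgroup A) N
  have h2 := Lib.SylowNormalInf.card_mul_relIndex ((P : Subgroup A) ⊓ N) (P : Subgroup A) inf_le_left
  have h3 := N.card_mul_index
  have h4 := (P : Subgroup A).card_mul_index
  have h5 : (P : Subgroup A).relIndex N * N.index = ((P : Subgroup A) ⊓ N).relIndex (P : Subgroup A) * (P : Subgroup A).index := by
    have hpos : 0 < Nat.card ((P : Subgroup A) ⊓ N : Subgroup A) := Nat.card_pos
    apply Nat.eq_of_mul_eq_mul_left hpos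
    rw [← mul_assoc, h1, h3, ← mul_assoc, h2, h4]
  have h6 := congrArg (fun m => m.factorization p) h5
  have e1 : (P : Subgroup A).relIndex N ≠ 0 := Nat.card_pos.ne'
  have e2 : N.index ≠ 0 := Subgroup.index_ne_zero_of_finite
  have e3 : ((P : Subgroup A) ⊓ N).relIndex (P : Subgroup A) ≠ 0 := Nat.card_pos.ne'
  have e4 : (P : Subgroup A).index ≠ 0 := Subgroup.index_ne_zero_of_finite
  simp only [Nat.factorization_mul e1 e2, Nat.factorization_mul e3 e4, Finsupp.add_apply] at h6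
  rw [Nat.factorization_eq_zero_of_not_dvd (Lib.SylowNormalInf.not_dvd_relIndex P N),
    Nat.factorization_eq_zero_of_not_dvd P.not_dvd_index, zero_add, add_zero] at h6
  exact h6

/-- an irreducible character of `P` of degree `|P : P ⊓ N|` -/
theorem exists_irr_degree [IsCyclic ((P : Subgroup A) ⊓ N : Subgroup A)]
    (h : ∀ x ∈ (P : Subgroup A), (∀ z ∈ (P : Subgroup A) ⊓ N, x * z = z * x) → x ∈ N) :
    ∃ φ : IrrCharacter ↥(P : Subgroup A),
      charDegree (φ : ↥(P : Subgroup A) → ℂ) = ((P : Subgroup A) ⊓ N).relIndex (P : Subgroup A) := by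
  classical
  have : Fintype ↥(P : Subgroup A) := Fintype.ofFinite _
  set Z' : Subgroup ↥(P : Subgroup A) := ((P : Subgroup A) ⊓ N).subgroupOf (P : Subgroup A) with hZ'
  have hmem : ∀ x : ↥(P : Subgroup A), x ∈ Z' ↔ (x : A) ∈ N := fun x => by
    rw [hZ', Subgroup.mem_subgroupOf, Subgroup.mem_inf]
    exact ⟨fun h => h.2, fun h => ⟨x.2, h⟩⟩
  have hZn : Z'.Normal := ⟨fun x hx y => by
    rw [hmem] at hx ⊢
    exact hN.conj_mem _ hx _⟩
  have hcyc : IsCyclic Z' := isCyclic_of_injective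
    (subgroupOfEquivOfLe (H := (P : Subgroup A) ⊓ N) (K := (P : Subgroup A)) inf_le_left).toMonoidHom
    (subgroupOfEquivOfLe (H := (P : Subgroup A) ⊓ N) (K := (P : Subgroup A)) inf_le_left).injective
  obtain ⟨l, hl⟩ := exists_faithful Z'
  have hθ := CharDeep.LinearChar.isIrrCharacter_of_hom l
  have hμ := isIrr_indFun_of_stabilizer Z' hθ (by
    intro g hg
    rw [hmem]
    refine h g g.2 fun z hz => ?_
    have hz' : (⟨z, hz.1⟩ : ↥(P : Subgroup A)) ∈ Z' := (hmem _).2 hz.2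
    have h1 := congrFun hg ⟨⟨z, hz.1⟩, hz'⟩
    rw [conjFn_apply'] at h1
    have h2 := hl (Units.ext h1)
    have h3 := congrArg (fun t : Z' => ((t : ↥(P : Subgroup A)) : A)) h2
    have h4 : (g : A) * z * (g : A)⁻¹ = z := by simpa [MulAut.conjNormal_apply] using h3
    exact mul_inv_eq_iff_eq_mul.1 h4)
  refine ⟨⟨_, hμ⟩, ?_⟩
  have h1 : ((⟨_, hμ⟩ : IrrCharacter ↥(P : Subgroup A)) : ↥(P : Subgroup A) → ℂ) 1 = (Z'.index : ℂ) * ((l 1 : ℂˣ) : ℂ) :=
    indFun_apply_one Z' _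
  rw [map_one, Units.val_one, mul_one, H145.BR.charDegree_cast'] at h1
  exact_mod_cast h1

/-- **the outer part** -/
theorem goodOn_cyc (hp2 : p ≠ 2) {M : Ideal AlgInt} (hM : IsPModular p M) {a : ℕ} (ha : 0 < a)
    (hcd : CD p a (P : Subgroup A)) [hZ : IsCyclic ((P : Subgroup A) ⊓ N : Subgroup A)]
    (hG : ∀ x ∈ (P : Subgroup A), (∀ z ∈ (P : Subgroup A) ⊓ N, x * z = z * x) → x ∈ N)
    (hPN : ¬ (P : Subgroup A) ≤ N) : GoodOn p a M N := by
  classical
  obtain ⟨Z, hZe⟩ : ∃ Z : Subgroup A, Z = (P : Subgroup A) ⊓ N := ⟨_, rfl⟩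
  have hZc : IsCyclic Z := by
    rw [hZe]
    exact hZ
  have : Fintype A := Fintype.ofFinite A
  have hZP : Z ≤ (P : Subgroup A) := hZe ▸ inf_le_left
  have hZN : Z ≤ N := hZe ▸ inf_le_right
  have hPn : (P : Subgroup A) ≤ normalizer (Z : Set A) := le_norm P N Z hZe
  have hZp : IsPGroup p Z := P.isPGroup'.to_le hZP
  obtain ⟨m, hm⟩ := IsPGroup.iff_card.1 hZp
  have hn0 : Nat.card Z ≠ 0 := Nat.card_pos.ne'
  have : NeZero (Nat.card Z) := ⟨hn0⟩
  have hR : IsCyclic (ZMod (Nat.card Z))ˣ := by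
    rw [hm]
    exact ZMod.isCyclic_units_of_prime_pow p hp.out hp2 m
  obtain ⟨j, r, hr, hjr⟩ := Nat.exists_eq_pow_mul_and_not_dvd (n := Nat.card (ZMod (Nat.card Z))ˣ) Nat.card_pos.ne' p
    hp.out.one_lt.ne'
  obtain ⟨Φ, h1, h2, h3⟩ := exists_Phi P N Z hZe hjr
  -- a `p`-element of order `p` outside
  have hrp : ∀ x : (ZMod (Nat.card Z))ˣ, ∀ k : ℕ, x ^ p ^ k = 1 → x ^ r = 1 → x = 1 := by
    intro x k hx1 hx2
    have h4 : Nat.Coprime (p ^ k) r := Nat.Coprime.pow_left _ ((Nat.Prime.coprime_iff_not_dvd hp.out).2 hr)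
    exact orderOf_eq_one_iff.1 (Nat.eq_one_of_dvd_coprimes h4 (orderOf_dvd_of_pow_eq_one hx1) (orderOf_dvd_of_pow_eq_one hx2))
  have hker : ∀ x (hx : x ∈ (P : Subgroup A)), kap Z ⟨x, hPn hx⟩ = 1 → x ∈ N := by
    intro x hx h
    rw [kap_eq_one_iff] at h
    exact hG x hx fun z hz => h z (hZe ▸ hz)
  obtain ⟨t, htP, htN⟩ := Set.not_subset.1 hPN
  obtain ⟨kt, hkt⟩ := exists_pow_one P htP
  have hkt1 : kap Z ⟨t, hPn htP⟩ ≠ 1 := fun h => htN (hker t htP h)
  have hkt2 : kap Z ⟨t, hPn htP⟩ ^ p ^ kt = 1 := by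
    rw [← map_pow]
    have e : (⟨t, hPn htP⟩ : ↥(normalizer (Z : Set A))) ^ p ^ kt = 1 := Subtype.ext hkt
    rw [e, map_one]
  obtain ⟨i, hi⟩ := exists_pow_orderOf hkt1 hkt2
  set t1 : ↥(normalizer (Z : Set A)) := ⟨t, hPn htP⟩ ^ i with ht1
  have ht1P : (t1 : A) ∈ (P : Subgroup A) := pow_mem htP i
  set k := kap Z t1 with hk
  have hko : orderOf k = p := by
    rw [hk, ht1, map_pow]
    exact hi
  have hkp : k ^ p = 1 := hko ▸ pow_orderOf_eq_one k
  have hk1 : k ≠ 1 := by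
    intro h
    rw [h, orderOf_one] at hko
    exact hp.out.one_lt.ne hko
  -- the subgroup `D`
  set D : Subgroup A := Φ.ker with hD
  have hND : N ≤ D := h2
  have hPD : (P : Subgroup A) ⊓ D = Z := by
    apply le_antisymm
    · rintro x ⟨hx, hxD⟩
      have h4 : kap Z ⟨x, hPn hx⟩ ^ r = 1 := by
        rw [← h1]
        exact hxD
      obtain ⟨kx, hkx⟩ := exists_pow_one P hx
      have h5 : kap Z ⟨x, hPn hx⟩ ^ p ^ kx = 1 := by
        rw [← map_pow]
        have e : (⟨x, hPn hx⟩ : ↥(normalizer (Z : Set A))) ^ p ^ kx = 1 := Subtype.ext hkx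
        rw [e, map_one]
      rw [hZe]
      exact ⟨hx, hker x hx (hrp _ _ h5 h4)⟩
    · exact le_inf hZP (hZN.trans hND)
  obtain ⟨Q, hQ⟩ : ∃ Q : Sylow p D, (Q : Subgroup D) = (P : Subgroup A).subgroupOf D :=
    ⟨(Lib.SylowNormalInf.isPGroup_subgroupOf P D).toSylow (Lib.SylowNormalInf.not_dvd_relIndex P D), rfl⟩
  have hmemQ : ∀ x : D, x ∈ (Q : Subgroup D) ↔ (x : A) ∈ Z := by
    intro x
    rw [hQ, Subgroup.mem_subgroupOf, ← hPD, Subgroup.mem_inf]
    exact ⟨fun h => ⟨h, x.2⟩, fun h => h.1⟩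
  have hcardQ : Nat.card (Q : Subgroup D) = Nat.card Z := by
    refine Nat.card_congr ⟨fun x => ⟨x, (hmemQ _).1 x.2⟩, fun x => ⟨⟨x, hND (hZN x.2)⟩, (hmemQ _).2 x.2⟩, fun _ => rfl,
      fun _ => rfl⟩
  have hQc : IsCyclic (Q : Subgroup D) := by
    let g : ↥(Q : Subgroup D) →* Z :=
      { toFun := fun x => ⟨x, (hmemQ _).1 x.2⟩
        map_one' := rfl
        map_mul' := fun _ _ => rfl }
    exact isCyclic_of_injective g fun a b h => Subtype.ext (Subtype.ext (congrArg (fun t : Z => (t : A)) h))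
  obtain ⟨ψ, hψ1, hψ2, ⟨x, hxQ, hψ3⟩, hψ4⟩ := exists_psi' hp2 hM Q hcardQ hr (by
    intro g hg
    have hg' : (g : A) ∈ normalizer (Z : Set A) := by
      rw [Subgroup.mem_normalizer_iff] at hg ⊢
      intro h
      constructor
      · intro hh
        have h4 := (hg ⟨h, hND (hZN hh)⟩).1 ((hmemQ _).2 hh)
        exact (hmemQ _).1 h4
      · intro hh
        have h5 : h ∈ D := by
          have h6 := (MonoidHom.normal_ker Φ).conj_mem _ (hND (hZN hh)) (g : A)⁻¹
          rw [inv_inv] at h6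
          have e : (g : A)⁻¹ * ((g : A) * h * (g : A)⁻¹) * (g : A) = h := by group
          rwa [e] at h6
        have h4 := (hg ⟨h, h5⟩).2 ((hmemQ _).2 hh)
        exact (hmemQ _).1 h4
    refine ⟨kap Z ⟨g, hg'⟩, ?_, fun x hx => ?_⟩
    · rw [← h1]
      exact g.2
    · apply Subtype.ext
      exact kap_spec Z ⟨g, hg'⟩ ((hmemQ _).1 hx))
    (MulAut.conjNormal (t1 : A) : MulAut D) hkp hk1 (by
    intro x hx
    apply Subtype.ext
    rw [MulAut.conjNormal_apply]
    exact kap_spec Z t1 ((hmemQ _).1 hx))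
  -- the stabilizer of `ψ`
  have hst : ∀ g : A, conjFn D (ψ : D → ℂ) g = (ψ : D → ℂ) → g ∈ D := by
    intro g hg
    by_contra hgD
    obtain ⟨i', hi'⟩ := exists_pow_orderOf (x := Φ g) (fun h => hgD h) (h3 g)
    have h4 : (Φ (t1 : A)) ^ p = 1 := by rw [h1, ← pow_mul, mul_comm, pow_mul, ← hk, hkp, one_pow]
    obtain ⟨l, hl⟩ := mem_zpowers_iff.1 (mem_zpowers_of_order_p hi' h4)
    have h5 : (t1 : A) * ((g ^ i') ^ l)⁻¹ ∈ D := by
      show Φ _ = 1
      rw [map_mul, map_inv, map_zpow, map_pow, hl, mul_inv_cancel]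
    have h6 : (t1 : A) ∈ inertia D (ψ : D → ℂ) := by
      have h7 : (g ^ i') ^ l ∈ inertia D (ψ : D → ℂ) := zpow_mem (pow_mem (show g ∈ inertia D (ψ : D → ℂ) from hg) _) _
      have h8 := mul_mem (le_inertia (isIrr_isClassFunction ψ.2) h5) h7
      rwa [inv_mul_cancel_right] at h8
    exact hψ4 h6
  have hirr := isIrr_indFun_of_stabilizer D ψ.2 hst
  set χ : IrrCharacter A := ⟨_, hirr⟩ with hχ
  have hdeg : charDegree (χ : A → ℂ) = D.index * charDegree (ψ : D → ℂ) := by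
    have h4 : (χ : A → ℂ) 1 = (D.index : ℂ) * (ψ : D → ℂ) 1 := indFun_apply_one D _
    rw [H145.BR.charDegree_cast', H145.BR.charDegree_cast'] at h4
    exact_mod_cast h4
  -- the exponent
  have hψ0 : charDegree (ψ : D → ℂ) ≠ 0 := by
    intro h
    rw [h] at hψ2
    exact hψ2 (dvd_zero p)
  have hv : vd p (χ : A → ℂ) = a := by
    unfold vd
    have hfac := factorization_index P D
    rw [hPD] at hfac
    obtain ⟨φ, hφ⟩ := exists_irr_degree P N hG
    rw [← hZe] at hφ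
    rw [hdeg, Nat.factorization_mul Subgroup.index_ne_zero_of_finite hψ0, Finsupp.add_apply,
      Nat.factorization_eq_zero_of_not_dvd hψ2, add_zero, hfac, ← hφ]
    rcases hcd.1 φ with h4 | h4
    · exfalso
      rw [hφ, Subgroup.relIndex_eq_one] at h4
      exact hPN (h4.trans hZN)
    · rw [h4, hp.out.factorization_pow, Finsupp.single_eq_same]
  refine ⟨χ, ?_, ⟨x, hZN ((hmemQ _).1 hxQ), fun h => hψ3 ?_⟩, by rw [hv]; exact ha, hv.le⟩
  · rw [H893.Sd.mem_iff hM] at hψ1 ⊢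
    have h4 := H914.XR.sum_reg_indFun (p := p) D (ψ : D → ℂ)
    have h5 : (D.index : ℂ) ≠ 0 := Nat.cast_ne_zero.2 Subgroup.index_ne_zero_of_finite
    intro h6
    exact (mul_ne_zero h5 hψ1) (h4.symm.trans h6)
  · have h4 : classInner (res D (χ : A → ℂ)) (ψ : D → ℂ) ≠ 0 := by
      rw [← classInner_res_symm D (isIrr_isCharacter ψ.2) (isIrr_isCharacter χ.2)]
      have h5 : classInner (indFun D (ψ : D → ℂ)) (χ : A → ℂ) = 1 :=
        (isIrr_iff_classInner_self (isIrr_isCharacter χ.2)).1 χ.2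
      rw [h5]
      exact one_ne_zero
    exact constituent_ker (isCharacter_res D (isIrr_isCharacter χ.2)) ψ.2 h4 h

end lemmas

/-- **the row** -/
theorem row_cyc (p : ℕ) [hp : Fact p.Prime] (hp2 : p ≠ 2) (K : Type v) [Group K] [Finite K] [IsSimpleGroup K]
    (hK : ¬ IsMulCommutative K) (hpK : p ∣ Nat.card K) (hcyc : ∀ P : Sylow p K, IsCyclic (P : Subgroup K)) : Row p K := by
  intro A _ _ N _ ⟨e⟩ hC M hM P a ha hcd
  have hNs : IsSimpleGroup N := MulEquiv.isSimpleGroup e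
  have hNc : ¬ IsMulCommutative N := by
    rintro ⟨⟨h⟩⟩
    exact hK ⟨⟨fun x y => by
      have h1 := congrArg e (h (e.symm x) (e.symm y))
      simpa using h1⟩⟩
  have hpN : p ∣ Nat.card N := by rwa [Nat.card_congr e.toEquiv]
  have hZ : IsCyclic ((P : Subgroup A) ⊓ N : Subgroup A) := by
    set f : ↥((P : Subgroup A) ⊓ N) →* K := e.toMonoidHom.comp (Subgroup.inclusion inf_le_right) with hf
    have hfi : Function.Injective f := e.injective.comp (Subgroup.inclusion_injective inf_le_right)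
    have hpg : IsPGroup p ↥((P : Subgroup A) ⊓ N) := P.isPGroup'.to_le inf_le_left
    obtain ⟨Q, hQ⟩ := (hpg.of_surjective f.rangeRestrict f.rangeRestrict_surjective).exists_le_sylow
    have := hcyc Q
    exact isCyclic_of_injective (f.codRestrict (Q : Subgroup K) fun x => hQ ⟨x, rfl⟩) fun a b h =>
      hfi (congrArg Subtype.val h)
  by_cases hPN : (P : Subgroup A) ≤ N
  · exfalso
    refine CD.not_comm hp.out ha hcd fun x y => ?_
    have h1 := (IsCyclic.commGroup (α := ↥((P : Subgroup A) ⊓ N))).mul_comm ⟨x, x.2, hPN x.2⟩ ⟨y, y.2, hPN y.2⟩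
    exact Subtype.ext (congrArg (fun t : ↥((P : Subgroup A) ⊓ N) => (t : A)) h1)
  · exact goodOn_cyc P N hp2 hM ha hcd
      (fun x hx h => mem_of_centralizes P N hp2 hNc hpN hC hx h) hPN

end Cfsg.Agent.H985.HT
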